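import Groth.Agent.H70.LocCrit.Loc
import Groth.Agent.H70.LocCrit.BC
import Groth.Agent.H2.FlatPow

/-!
# Flatness at primes under base change (helper70)

* `flat_tensor_localizedModule`: if `C ⊗_R M` is flat over the `R`-algebra `C`, so is
  `C ⊗_R M_W` for a localization of the `S`-module `M`.
* `lTensor_injective_of_forall_localized`: injectivity of `M ⊗ u` can be checked at the primes of
  the ring `S` acting on `M`.
* `flat_localizedModule_of_flat_tensor` (Lemma C): `R' ⊗_R M_q` flat over `R'` implies
  `(M')_{q'}` flat over `R'` for `q'` over `q`.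
-/

set_option autoImplicit false
set_option linter.style.haveILetI false
universe u
open scoped TensorProduct
open Function (Injective Surjective Exact)

namespace Groth.Agent.H70.FlatAtBC

open Groth.Agent.H70.LocCrit

section L

variable {R S : Type u} [CommRing R] [CommRing S] [Algebra R S]
  {M M₁ : Type u} [AddCommGroup M] [Module S M] [Module R M] [IsScalarTower R S M]
  [AddCommGroup M₁] [Module S M₁] [Module R M₁] [IsScalarTower R S M₁]

/-- Localizing the `S`-module `M` preserves flatness of `C ⊗_R M` over `C`. -/
theorem flat_tensor_of_isLocalizedModule (W : Submonoid S) (g : M →ₗ[S] M₁) [IsLocalizedModule W g]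
    (C : Type u) [CommRing C] [Algebra R C] [Module.Flat C (C ⊗[R] M)] :
    Module.Flat C (C ⊗[R] M₁) := by
  apply flat_of_rTensor_injective
  intro J
  rw [← LinearMap.lTensor_inj_iff_rTensor_inj]
  apply lTensor_injective_of_isLocalizedModule W g
  intro z hz
  have hinj : Injective ((J.subtype.restrictScalars R).lTensor M) :=
    Groth.Agent.H2.lTensor_injective_of_algebra_flat (R := R) (M := M) C J.subtype
      (Submodule.injective_subtype J)
  rw [hinj (hz.trans (map_zero _).symm), map_zero]

/-- Injectivity of `M ⊗ u` is local on the ring acting on `M`. -/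
theorem lTensor_injective_of_forall_localized {Q₁ Q₂ : Type u} [AddCommGroup Q₁] [Module R Q₁]
    [AddCommGroup Q₂] [Module R Q₂] (u : Q₁ →ₗ[R] Q₂)
    (h : ∀ q : PrimeSpectrum S,
      Injective (u.lTensor (LocalizedModule q.asIdeal.primeCompl M))) :
    Injective (u.lTensor M) := by
  rw [injective_iff_map_eq_zero]
  intro z hz
  let ann : Ideal S := LinearMap.ker (LinearMap.toSpanSingleton S (M ⊗[R] Q₁) z)
  have hmem : ∀ b : S, b ∈ ann ↔ b • z = 0 := by
    intro b
    rw [LinearMap.mem_ker, LinearMap.toSpanSingleton_apply]
  by_contra hz0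
  have hne : ann ≠ ⊤ := by
    intro htop
    have : (1 : S) ∈ ann := htop ▸ Submodule.mem_top
    rw [hmem, one_smul] at this
    exact hz0 this
  obtain ⟨𝔪, h𝔪, hle⟩ := Ideal.exists_le_maximal ann hne
  let q : PrimeSpectrum S := ⟨𝔪, h𝔪.isPrime⟩
  let g := LocalizedModule.mkLinearMap q.asIdeal.primeCompl M
  let g₁ := TensorProduct.AlgebraTensorModule.rTensor R Q₁ g
  let g₂ := TensorProduct.AlgebraTensorModule.rTensor R Q₂ g
  have hsq : ∀ z, u.lTensor (LocalizedModule q.asIdeal.primeCompl M) (g₁ z) = g₂ (u.lTensor M z) := by
    intro z
    induction z using TensorProduct.induction_on with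
    | zero => simp
    | tmul n q => rfl
    | add a b ha hb => simp only [map_add, ha, hb]
  have h0 : g₁ z = g₁ 0 := by
    apply h q
    rw [hsq, hz, map_zero, map_zero, map_zero]
  obtain ⟨c, hc⟩ := IsLocalizedModule.exists_of_eq (S := q.asIdeal.primeCompl) h0
  have hc' : (c : S) • z = 0 := by
    have : (c : S) • z = (c : S) • (0 : M ⊗[R] Q₁) := hc
    rw [this, smul_zero]
  exact c.2 (hle ((hmem _).mpr hc'))

end L

section C

variable {R S R' S' : Type u} [CommRing R] [CommRing S] [CommRing R'] [CommRing S']
  [Algebra R S] [Algebra R R'] [Algebra S S'] [Algebra R' S'] [Algebra R S']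
  [IsScalarTower R S S'] [IsScalarTower R R' S'] [Algebra.IsPushout R S R' S']
  {M M' : Type u} [AddCommGroup M] [Module S M] [Module R M] [IsScalarTower R S M]
  [AddCommGroup M'] [Module S' M'] [Module R' M'] [IsScalarTower R' S' M'] [Module S M']
  [IsScalarTower S S' M'] [Module R M'] [IsScalarTower R R' M'] [IsScalarTower R S M']

/-- In a pushout square, the base change of `M` along `S → S'` is its base change along
`R → R'`. -/
theorem isBaseChange_restrictScalars (f : M →ₗ[S] M') (hf : IsBaseChange S' f) :
    IsBaseChange R' (f.restrictScalars R) := by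
  haveI : Algebra.IsPushout R R' S S' := Algebra.IsPushout.symm inferInstance
  let e := Algebra.IsPushout.cancelBaseChange R R' S S' M
  refine IsBaseChange.of_equiv (e.symm ≪≫ₗ hf.equiv.restrictScalars R') ?_
  intro m
  rw [LinearEquiv.trans_apply, Algebra.IsPushout.cancelBaseChange_symm_tmul]
  simp [hf.equiv_tmul]

/-- **Lemma C.**  If `R' ⊗_R M_q` is flat over `R'`, where `q = q' ∩ S`, then `M'_{q'}` is flat
over `R'`. -/
theorem flat_localizedModule_of_flat_tensor (f : M →ₗ[S] M') (hf : IsBaseChange S' f)
    (q' : Ideal S') [q'.IsPrime]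
    (hflat : Module.Flat R' (R' ⊗[R] LocalizedModule (q'.comap (algebraMap S S')).primeCompl M)) :
    Module.Flat R' (LocalizedModule q'.primeCompl M') := by
  have hj : IsBaseChange R' (f.restrictScalars R) := isBaseChange_restrictScalars (R := R) f hf
  let q := q'.comap (algebraMap S S')
  let g := LocalizedModule.mkLinearMap q'.primeCompl M'
  let g₀ := LocalizedModule.mkLinearMap q.primeCompl M
  rw [Module.Flat.iff_lTensor_injective']
  intro K
  apply lTensor_injective_of_isLocalizedModule q'.primeCompl g
  intro z hz
  -- transport to `M ⊗[R] K`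
  let x' : M ⊗[R] K := TensorProduct.comm R K M (theta hj K z)
  have hx' : (K.subtype.restrictScalars R).lTensor M x' = 0 := by
    have h1 := theta_natural hj K.subtype z
    rw [hz, map_zero] at h1
    have h2 : (K.subtype.restrictScalars R).lTensor M (TensorProduct.comm R K M (theta hj K z)) =
        TensorProduct.comm R R' M ((K.subtype.restrictScalars R).rTensor M (theta hj K z)) := by
      generalize theta hj K z = y
      induction y using TensorProduct.induction_on with
      | zero => simp
      | tmul k m => rfl
      | add a b ha hb => simp only [map_add, ha, hb]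
    rw [h2, ← h1, map_zero]
  -- flatness kills `x'` after localizing at `q`
  let g₁ := TensorProduct.AlgebraTensorModule.rTensor R K g₀
  let g₂ := TensorProduct.AlgebraTensorModule.rTensor R R' g₀
  have hinj : Injective ((K.subtype.restrictScalars R).lTensor (LocalizedModule q.primeCompl M)) :=
    Groth.Agent.H2.lTensor_injective_of_algebra_flat (R := R)
      (M := LocalizedModule q.primeCompl M) R' K.subtype (Submodule.injective_subtype K)
  have hsq : ∀ y, (K.subtype.restrictScalars R).lTensor (LocalizedModule q.primeCompl M) (g₁ y) =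
      g₂ ((K.subtype.restrictScalars R).lTensor M y) := by
    intro y
    induction y using TensorProduct.induction_on with
    | zero => simp
    | tmul n k => rfl
    | add a b ha hb => simp only [map_add, ha, hb]
  have h0 : g₁ x' = g₁ 0 := by
    apply hinj
    rw [hsq, hx', map_zero, map_zero, map_zero]
  obtain ⟨s, hs⟩ := IsLocalizedModule.exists_of_eq (S := q.primeCompl) h0
  have hs' : (s : S) • x' = 0 := by
    have : (s : S) • x' = (s : S) • (0 : M ⊗[R] K) := hs
    rw [this, smul_zero]
  -- transport back
  have hΦ : ∀ y : M ⊗[R] K, (theta hj K).symm ((TensorProduct.comm R K M).symm ((s : S) • y)) =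
      algebraMap S S' s • (theta hj K).symm ((TensorProduct.comm R K M).symm y) := by
    intro y
    induction y using TensorProduct.induction_on with
    | zero => simp
    | tmul m k =>
      rw [TensorProduct.smul_tmul', TensorProduct.comm_symm_tmul, TensorProduct.comm_symm_tmul,
        theta_symm_tmul, theta_symm_tmul, TensorProduct.smul_tmul']
      congr 1
      change f (s.1 • m) = _
      rw [map_smul, algebraMap_smul]
      rfl
    | add a b ha hb => simp only [smul_add, map_add, ha, hb]
  have hz' : algebraMap S S' s • z = 0 := by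
    have := hΦ x'
    rw [hs', map_zero, map_zero] at this
    have hx'z : (theta hj K).symm ((TensorProduct.comm R K M).symm x') = z := by
      simp [x']
    rw [hx'z] at this
    exact this.symm
  have hsq' : algebraMap S S' s ∈ q'.primeCompl := s.2
  have hinj' := IsLocalizedModule.smul_injective
    (TensorProduct.AlgebraTensorModule.rTensor R' K g) ⟨algebraMap S S' s, hsq'⟩
  apply hinj'
  beta_reduce
  rw [Submonoid.mk_smul, Submonoid.mk_smul, smul_zero, ← map_smul, hz', map_zero]

end C

end Groth.Agent.H70.FlatAtBC
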