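import Groth.Agent.H70.FlatAtBC.Basic
import Groth.Agent.H9.UnivFlatLocal
import Mathlib.RingTheory.Filtration
import Mathlib.RingTheory.LocalRing.RingHom.Basic

/-!
# Base change and the flattening ideal of a complete local ring (helper70)
-/

set_option autoImplicit false
set_option linter.style.haveILetI false
universe u
open scoped TensorProduct
open Function (Injective Surjective Exact)

namespace Groth.Agent.H70.FlatAtBC

open Groth.Agent.H70.LocCrit IsLocalRing

section Strat

variable {R S R' S' : Type u} [CommRing R] [IsLocalRing R] [CommRing S]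
  [CommRing R'] [IsLocalRing R'] [IsNoetherianRing R'] [CommRing S']
  [Algebra R S] [Algebra R R'] [IsLocalHom (algebraMap R R')] [Algebra S S'] [Algebra R' S']
  [Algebra R S'] [IsScalarTower R S S'] [IsScalarTower R R' S'] [Algebra.IsPushout R S R' S']
  {M M' : Type u} [AddCommGroup M] [Module S M] [Module R M] [IsScalarTower R S M]
  [AddCommGroup M'] [Module S' M'] [Module R' M'] [IsScalarTower R' S' M'] [Module S M']
  [IsScalarTower S S' M'] [Module R M'] [IsScalarTower R R' M'] [IsScalarTower R S M']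

/-- the easy direction -/
theorem flatAt_of_le_ker (f : M →ₗ[S] M') (hf : IsBaseChange S' f) (I : Ideal R)
    (hI : ∀ (q : Ideal S) [q.IsPrime], q.comap (algebraMap R S) = maximalIdeal R →
        Module.Flat (R ⧸ I) ((R ⧸ I) ⊗[R] LocalizedModule q.primeCompl M))
    (hle : I ≤ RingHom.ker (algebraMap R R'))
    (q' : Ideal S') [q'.IsPrime] (hq' : q'.comap (algebraMap R' S') = maximalIdeal R') :
    Module.Flat R' (LocalizedModule q'.primeCompl M') := by
  have hq : (q'.comap (algebraMap S S')).comap (algebraMap R S) = maximalIdeal R := by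
    rw [Ideal.comap_comap, ← IsScalarTower.algebraMap_eq, IsScalarTower.algebraMap_eq R R' S',
      ← Ideal.comap_comap, hq', maximalIdeal_comap]
  haveI := hI (q'.comap (algebraMap S S')) hq
  letI : Algebra (R ⧸ I) R' := (Ideal.Quotient.lift I (algebraMap R R') (fun a ha => hle ha)).toAlgebra
  haveI : IsScalarTower R (R ⧸ I) R' := IsScalarTower.of_algebraMap_eq (fun x => rfl)
  have hflat : Module.Flat R' (R' ⊗[R] LocalizedModule (q'.comap (algebraMap S S')).primeCompl M) :=
    Module.Flat.of_linearEquiv (TensorProduct.AlgebraTensorModule.cancelBaseChange R (R ⧸ I) R' R'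
      (LocalizedModule (q'.comap (algebraMap S S')).primeCompl M)).symm
  exact flat_localizedModule_of_flat_tensor (R := R) f hf q' hflat

/-- Modulo `𝔫' ⊇ b^n`, a localization of `M'` at a prime not containing `b` tensored with a
`R'/𝔫'`-module vanishes. -/
theorem subsingleton_tensor_of_not_mem (𝔮 : Ideal S') [𝔮.IsPrime] (b : R')
    (hb : algebraMap R' S' b ∉ 𝔮) (n : ℕ) (Q : Type u) [AddCommGroup Q] [Module R' Q]
    (hQ : ∀ x : Q, b ^ n • x = 0) :
    Subsingleton (LocalizedModule 𝔮.primeCompl M' ⊗[R'] Q) := by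
  refine ⟨fun x y => ?_⟩
  have h0 : ∀ z : LocalizedModule 𝔮.primeCompl M' ⊗[R'] Q, z = 0 := by
    intro z
    induction z using TensorProduct.induction_on with
    | zero => rfl
    | tmul x c =>
      have ht : (algebraMap R' S' b) ^ n ∈ 𝔮.primeCompl :=
        Submonoid.pow_mem _ hb n
      have hunit := IsLocalizedModule.map_units
        (LocalizedModule.mkLinearMap 𝔮.primeCompl M') ⟨(algebraMap R' S' b) ^ n, ht⟩
      obtain ⟨x', hx'⟩ := ((Module.End.isUnit_iff _).mp hunit).2 x
      have hx'' : b ^ n • x' = x := by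
        rw [← hx', Module.algebraMap_end_apply]
        change b ^ n • x' = ((algebraMap R' S' b) ^ n) • x'
        rw [← map_pow, algebraMap_smul]
      rw [← hx'', TensorProduct.smul_tmul, hQ, TensorProduct.tmul_zero]
    | add a b ha hb => rw [ha, hb, add_zero]
  rw [h0 x, h0 y]

/-- the hard direction -/
theorem le_ker_of_flatAt (f : M →ₗ[S] M') (hf : IsBaseChange S' f) (I : Ideal R)
    (hmin : ∀ J : Ideal R, (∀ (q : Ideal S) [q.IsPrime],
        q.comap (algebraMap R S) = maximalIdeal R →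
        Module.Flat (R ⧸ J) ((R ⧸ J) ⊗[R] LocalizedModule q.primeCompl M)) → I ≤ J)
    (H : ∀ (q' : Ideal S') [q'.IsPrime], q'.comap (algebraMap R' S') = maximalIdeal R' →
      Module.Flat R' (LocalizedModule q'.primeCompl M')) :
    I ≤ RingHom.ker (algebraMap R R') := by
  have key : ∀ k : ℕ, ∀ a ∈ I, algebraMap R R' a ∈ maximalIdeal R' ^ (k + 1) := by
    intro k a ha
    have h𝔫 : maximalIdeal R ^ (k + 1) ≤ (maximalIdeal R' ^ (k + 1)).comap (algebraMap R R') := by
      rw [← Ideal.map_le_iff_le_comap, Ideal.map_pow]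
      exact Ideal.pow_right_mono (map_maximalIdeal_le (algebraMap R R')) _
    letI : Algebra (R ⧸ maximalIdeal R ^ (k + 1)) (R' ⧸ maximalIdeal R' ^ (k + 1)) :=
      Ideal.Quotient.algebraQuotientOfLEComap h𝔫
    haveI : IsScalarTower R (R ⧸ maximalIdeal R ^ (k + 1)) (R' ⧸ maximalIdeal R' ^ (k + 1)) :=
      IsScalarTower.of_algebraMap_eq (fun x => rfl)
    let mA : Ideal (R ⧸ maximalIdeal R ^ (k + 1)) :=
      (maximalIdeal R).map (Ideal.Quotient.mk (maximalIdeal R ^ (k + 1)))
    haveI : mA.IsMaximal :=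
      Ideal.IsMaximal.map_of_surjective_of_ker_le Ideal.Quotient.mk_surjective (by
        rw [Ideal.mk_ker]; exact Ideal.pow_le_self (Nat.succ_ne_zero k))
    have hnil : IsNilpotent mA := ⟨k + 1, by
      rw [← Ideal.map_pow, Ideal.zero_eq_bot, Ideal.map_quotient_self]⟩
    obtain ⟨Ik, hIk⟩ := Groth.Agent.H9.UnivFlat.exists_flattening_ideal_of_nilpotent_maximal mA hnil
      ((R ⧸ maximalIdeal R ^ (k + 1)) ⊗[R] M)
    let Jk : Ideal R := Ik.comap (Ideal.Quotient.mk (maximalIdeal R ^ (k + 1)))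
    have h𝔫J : maximalIdeal R ^ (k + 1) ≤ Jk := fun x hx => by
      rw [Ideal.mem_comap, Ideal.Quotient.eq_zero_iff_mem.mpr hx]; exact Ik.zero_mem
    -- Step (a)
    have hIJ : I ≤ Jk := by
      apply hmin
      intro q _ _
      letI : Algebra (R ⧸ maximalIdeal R ^ (k + 1)) (R ⧸ Jk) :=
        (Ideal.Quotient.factor h𝔫J).toAlgebra
      haveI : IsScalarTower R (R ⧸ maximalIdeal R ^ (k + 1)) (R ⧸ Jk) :=
        IsScalarTower.of_algebraMap_eq (fun x => rfl)
      have hmap : Ik.map (algebraMap (R ⧸ maximalIdeal R ^ (k + 1)) (R ⧸ Jk)) = ⊥ := by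
        rw [eq_bot_iff, Ideal.map_le_iff_le_comap]
        intro x hx
        obtain ⟨r, rfl⟩ := Ideal.Quotient.mk_surjective x
        rw [Ideal.mem_comap, Ideal.mem_bot]
        change Ideal.Quotient.mk Jk r = 0
        rw [Ideal.Quotient.eq_zero_iff_mem]
        exact hx
      haveI h1 : Module.Flat (R ⧸ Jk)
          ((R ⧸ Jk) ⊗[R ⧸ maximalIdeal R ^ (k + 1)] ((R ⧸ maximalIdeal R ^ (k + 1)) ⊗[R] M)) :=
        (hIk (R ⧸ Jk)).mpr hmap
      haveI h2 : Module.Flat (R ⧸ Jk) ((R ⧸ Jk) ⊗[R] M) :=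
        Module.Flat.of_linearEquiv (TensorProduct.AlgebraTensorModule.cancelBaseChange R
          (R ⧸ maximalIdeal R ^ (k + 1)) (R ⧸ Jk) (R ⧸ Jk) M).symm
      exact flat_tensor_of_isLocalizedModule q.primeCompl
        (LocalizedModule.mkLinearMap q.primeCompl M) (R ⧸ Jk)
    -- Step (c)
    have hj : IsBaseChange R' (f.restrictScalars R) := isBaseChange_restrictScalars (R := R) f hf
    haveI hC : Module.Flat (R' ⧸ maximalIdeal R' ^ (k + 1))
        ((R' ⧸ maximalIdeal R' ^ (k + 1)) ⊗[R'] M') := by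
      apply flat_of_rTensor_injective
      intro 𝔠
      rw [← LinearMap.lTensor_inj_iff_rTensor_inj]
      apply lTensor_injective_of_forall_localized (S := S')
      intro 𝔮
      by_cases h𝔮 : 𝔮.asIdeal.comap (algebraMap R' S') = maximalIdeal R'
      · haveI := H 𝔮.asIdeal h𝔮
        exact Module.Flat.lTensor_preserves_injective_linearMap _ (Submodule.injective_subtype 𝔠)
      · have hlt : ¬ maximalIdeal R' ≤ 𝔮.asIdeal.comap (algebraMap R' S') := by
          intro hle
          exact h𝔮 ((maximalIdeal.isMaximal R').eq_of_le Ideal.IsPrime.ne_top' hle).symm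
        obtain ⟨b, hbm, hb⟩ := SetLike.not_le_iff_exists.mp hlt
        haveI := subsingleton_tensor_of_not_mem (M' := M') 𝔮.asIdeal b hb (k + 1) 𝔠 (fun x => by
          rw [← algebraMap_smul (R' ⧸ maximalIdeal R' ^ (k + 1)) (b ^ (k + 1)) x]
          have : algebraMap R' (R' ⧸ maximalIdeal R' ^ (k + 1)) (b ^ (k + 1)) = 0 := by
            rw [Ideal.Quotient.algebraMap_eq, Ideal.Quotient.eq_zero_iff_mem]
            exact Ideal.pow_mem_pow hbm _
          rw [this, zero_smul])
        exact Function.injective_of_subsingleton _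
    haveI hC2 : Module.Flat (R' ⧸ maximalIdeal R' ^ (k + 1))
        ((R' ⧸ maximalIdeal R' ^ (k + 1)) ⊗[R] M) :=
      Module.Flat.of_linearEquiv
        ((TensorProduct.AlgebraTensorModule.cancelBaseChange R R' (R' ⧸ maximalIdeal R' ^ (k + 1))
          (R' ⧸ maximalIdeal R' ^ (k + 1)) M).symm ≪≫ₗ
          TensorProduct.AlgebraTensorModule.congr
            (LinearEquiv.refl (R' ⧸ maximalIdeal R' ^ (k + 1)) (R' ⧸ maximalIdeal R' ^ (k + 1)))
            hj.equiv)
    haveI hC3 : Module.Flat (R' ⧸ maximalIdeal R' ^ (k + 1))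
        ((R' ⧸ maximalIdeal R' ^ (k + 1)) ⊗[R ⧸ maximalIdeal R ^ (k + 1)]
          ((R ⧸ maximalIdeal R ^ (k + 1)) ⊗[R] M)) :=
      Module.Flat.of_linearEquiv (TensorProduct.AlgebraTensorModule.cancelBaseChange R
        (R ⧸ maximalIdeal R ^ (k + 1)) (R' ⧸ maximalIdeal R' ^ (k + 1))
        (R' ⧸ maximalIdeal R' ^ (k + 1)) M)
    have hmapC := (hIk (R' ⧸ maximalIdeal R' ^ (k + 1))).mp hC3
    have haJ : a ∈ Jk := hIJ ha
    have h1 : algebraMap (R ⧸ maximalIdeal R ^ (k + 1)) (R' ⧸ maximalIdeal R' ^ (k + 1))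
        (Ideal.Quotient.mk _ a) ∈ Ik.map (algebraMap _ _) := Ideal.mem_map_of_mem _ haJ
    rw [hmapC, Ideal.mem_bot] at h1
    have h2 : Ideal.Quotient.mk (maximalIdeal R' ^ (k + 1)) (algebraMap R R' a) = 0 := h1
    exact Ideal.Quotient.eq_zero_iff_mem.mp h2
  intro a ha
  rw [RingHom.mem_ker]
  have hkrull := Ideal.iInf_pow_eq_bot_of_isLocalRing (maximalIdeal R') Ideal.IsPrime.ne_top'
  have hmem : algebraMap R R' a ∈ (⨅ i : ℕ, maximalIdeal R' ^ i : Ideal R') := by
    rw [Ideal.mem_iInf]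
    intro i
    cases i with
    | zero => simp
    | succ k => exact key k a ha
  rw [hkrull] at hmem
  exact hmem

end Strat

end Groth.Agent.H70.FlatAtBC
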